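import Groth.Agent.Lib.GaDual.Char
import Mathlib.Algebra.CharP.Lemmas

/-!
# Truncated exponential characters in characteristic `p`
-/

set_option autoImplicit false

universe u

open Polynomial Finset

namespace GrothLib.GaDualP13

open GrothLib.GaDual (expp cf)

variable {A : Type u} [CommRing A]

/-- A polynomial which is a character of the additive group. -/
def IsCharPoly (f : A[X]) : Prop :=
  f.coeff 0 = 1 ∧ ∀ i j, f.coeff i * f.coeff j = ((i + j).choose i : A) * f.coeff (i + j)

theorem IsCharPoly.one : IsCharPoly (1 : A[X]) := by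
  refine ⟨by simp, fun i j => ?_⟩
  rcases Nat.eq_zero_or_pos i with rfl | hi
  · simp
  · simp [coeff_one, hi.ne', show i + j ≠ 0 by omega]

theorem IsCharPoly.mul {f g : A[X]} (hf : IsCharPoly f) (hg : IsCharPoly g) : IsCharPoly (f * g) := by
  refine ⟨by rw [mul_coeff_zero, hf.1, hg.1, one_mul], (GrothLib.GaDual.charEq_iff _).1 ?_⟩
  rw [map_mul, map_mul, map_mul, (GrothLib.GaDual.charEq_iff f).2 hf.2, (GrothLib.GaDual.charEq_iff g).2 hg.2]
  ring

theorem IsCharPoly.map {B : Type u} [CommRing B] (φ : A →+* B) {f : A[X]} (hf : IsCharPoly f) :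
    IsCharPoly (f.map φ) := by
  refine ⟨by rw [coeff_map, hf.1, map_one], fun i j => ?_⟩
  rw [coeff_map, coeff_map, coeff_map, ← map_mul, hf.2 i j, map_mul, map_natCast]

theorem IsCharPoly.eval₂_add {B : Type u} [CommRing B] (φ : A →+* B) {f : A[X]} (hf : IsCharPoly f) (s t : B) :
    f.eval₂ φ (s + t) = f.eval₂ φ s * f.eval₂ φ t := by
  have h := congrArg (MvPolynomial.eval₂Hom φ ![s, t]) ((GrothLib.GaDual.charEq_iff f).2 hf.2)
  rw [map_mul] at h
  simp only [Polynomial.aeval_def, Polynomial.hom_eval₂] at h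
  simpa [show (MvPolynomial.eval₂Hom φ ![s, t]).comp MvPolynomial.C = φ from RingHom.ext fun a => by simp] using h

theorem IsCharPoly.isUnit_eval₂ {B : Type u} [CommRing B] (φ : A →+* B) {f : A[X]} (hf : IsCharPoly f) (t : B) :
    IsUnit (f.eval₂ φ t) := by
  refine IsUnit.of_mul_eq_one (b := f.eval₂ φ (-t)) ?_
  rw [← hf.eval₂_add, add_neg_cancel, eval₂_at_zero, hf.1, map_one]

theorem IsCharPoly.linear {e : A} (he : e * e = 0) : IsCharPoly (1 + C e * X) := by
  have hc : ∀ k, (1 + C e * X : A[X]).coeff k = if k = 0 then 1 else if k = 1 then e else 0 := fun k => by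
    rcases k with _ | _ | k <;> simp [coeff_one, coeff_X]
  refine ⟨by simp, fun i j => ?_⟩
  simp only [hc]
  rcases i with _ | _ | i <;> rcases j with _ | _ | j <;>
    simp [he, show (1 : ℕ) + 1 = 2 from rfl]
  exact fun h => absurd h (by omega)

section

variable (p : ℕ) [hpf : Fact p.Prime]

theorem charP_or_subsingleton (hp : (p : A) = 0) : Subsingleton A ∨ CharP A p := by
  rcases subsingleton_or_nontrivial A with h | h
  · exact Or.inl h
  · exact Or.inr ((CharP.charP_iff_prime_eq_zero hpf.out).2 hp)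

theorem isUnit_factorial (hp : (p : A) = 0) {n : ℕ} (h : n < p) : IsUnit (n.factorial : A) := by
  rcases charP_or_subsingleton p hp with _ | _
  · exact isUnit_of_subsingleton _
  · exact GrothLib.GaDual.isUnit_factorial_of_lt p h

omit hpf in
theorem map_inverse_of_isUnit {B : Type u} [CommRing B] (φ : A →+* B) {z : A} (hz : IsUnit z) :
    φ (Ring.inverse z) = Ring.inverse (φ z) := by
  obtain ⟨w, rfl⟩ := hz
  rw [Ring.inverse_unit, show φ (w : A) = ((Units.map φ.toMonoidHom w : Bˣ) : B) from rfl, Ring.inverse_unit]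
  rfl

theorem map_invFac {B : Type u} [CommRing B] (φ : A →+* B) (hp : (p : A) = 0) {n : ℕ} (h : n < p) :
    φ (Ring.inverse (n.factorial : A)) = Ring.inverse (n.factorial : B) := by
  rw [map_inverse_of_isUnit φ (isUnit_factorial p hp h), map_natCast]

theorem map_expp {B : Type u} [CommRing B] (φ : A →+* B) (hp : (p : A) = 0) (a : A) (q : ℕ) :
    (expp p a q).map φ = expp p (φ a) q := by
  simp only [expp, Polynomial.map_sum, Polynomial.map_mul, Polynomial.map_C, Polynomial.map_pow, map_X]
  exact sum_congr rfl fun j hj => by rw [map_mul, map_pow, map_invFac p φ hp (mem_range.1 hj)]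

omit hpf in
theorem coeff_expp_one (a : A) (k : ℕ) :
    (expp p a 1).coeff k = if k < p then Ring.inverse (k.factorial : A) * a ^ k else 0 := by
  rw [expp, finsetSum_coeff]
  simp only [mul_one, coeff_C_mul_X_pow, Finset.sum_ite_eq, Finset.mem_range]

omit hpf in
theorem expp_comp (a : A) (m q : ℕ) : (expp p a m).comp (X ^ q) = expp p a (q * m) := by
  simp only [expp, Polynomial.sum_comp, mul_comp, C_comp, pow_comp, X_comp, ← pow_mul]
  exact sum_congr rfl fun j _ => by rw [mul_left_comm q j m]

theorem isCharPoly_expp (hp : (p : A) = 0) (a : A) (ha : a ^ p = 0) (n : ℕ) :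
    IsCharPoly (expp p a (p ^ n)) := by
  rcases charP_or_subsingleton p hp with _ | _
  · exact ⟨Subsingleton.elim _ _, fun _ _ => Subsingleton.elim _ _⟩
  · refine ⟨?_, (GrothLib.GaDual.charEq_iff _).1 (GrothLib.GaDual.expp_charEq a ha n)⟩
    rw [expp, finsetSum_coeff, sum_eq_single 0]
    · simp
    · intro j _ hj
      rw [coeff_C_mul_X_pow, if_neg (Nat.mul_ne_zero hj (pow_ne_zero n hpf.out.ne_zero)).symm]
    · intro h; exact absurd (mem_range.2 hpf.out.pos) h

/-- A character of degree `< p ^ m` is a product of truncated exponentials. -/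
theorem eq_prod_expp (hp : (p : A) = 0) {f : A[X]} (hf : IsCharPoly f) (m : ℕ) (hm : f.natDegree < p ^ m) :
    f = ∏ n ∈ range m, expp p (f.coeff (p ^ n)) (p ^ n) := by
  rcases charP_or_subsingleton p hp with _ | _
  · exact Subsingleton.elim _ _
  · ext k
    rw [GrothLib.GaDual.coeff_prod_expp (M := m) (fun k => f.coeff k) hf.1 (fun i j _ _ => hf.2 i j)
      (fun n => f.coeff (p ^ n)) (fun _ _ => rfl) m le_rfl k]
    split_ifs with h
    · rfl
    · exact coeff_eq_zero_of_natDegree_lt (by omega)

theorem coeff_pow_eq_zero (hp : (p : A) = 0) {f : A[X]} (hf : IsCharPoly f) (n : ℕ) :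
    f.coeff (p ^ n) ^ p = 0 := by
  rcases charP_or_subsingleton p hp with _ | _
  · exact Subsingleton.elim _ _
  · exact (GrothLib.GaDual.charSeq_pow_pow (M := n + 1) (fun k => f.coeff k) hf.1 (fun i j _ _ => hf.2 i j)
      (Nat.lt_succ_self n)).2

/-- The carry in the sum of two truncated exponentials. -/
noncomputable def carry (x y : A) : A := (expp p x 1 * expp p y 1).coeff p

omit hpf in
theorem carry_eq_sum (x y : A) : carry p x y = ∑ i ∈ range p, ∑ j ∈ range p,
    if i + j = p then Ring.inverse (i.factorial : A) * Ring.inverse (j.factorial : A) * (x ^ i * y ^ j) else 0 := by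
  rw [carry, expp, expp, sum_mul_sum, finsetSum_coeff]
  refine sum_congr rfl fun i _ => ?_
  rw [finsetSum_coeff]
  refine sum_congr rfl fun j _ => ?_
  rw [show C (Ring.inverse (i.factorial : A) * x ^ i) * X ^ (i * 1) *
      (C (Ring.inverse (j.factorial : A) * y ^ j) * X ^ (j * 1)) =
      C (Ring.inverse (i.factorial : A) * x ^ i * (Ring.inverse (j.factorial : A) * y ^ j)) * X ^ (i + j) by
    rw [C_mul (a := Ring.inverse (i.factorial : A) * x ^ i), pow_add, mul_one, mul_one]; ring,
    coeff_C_mul_X_pow]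
  rcases eq_or_ne (i + j) p with h | h
  · rw [if_pos h.symm, if_pos h]; ring
  · rw [if_neg (Ne.symm h), if_neg h]

omit hpf in
theorem carry_sq {x y : A} (hx : x ^ p = 0) (hy : y ^ p = 0) : carry p x y * carry p x y = 0 := by
  simp only [carry_eq_sum, sum_mul, mul_sum]
  refine sum_eq_zero fun i _ => sum_eq_zero fun j _ => sum_eq_zero fun k _ => sum_eq_zero fun l _ => ?_
  split_ifs with h1 h2
  · rcases le_or_gt p (i + k) with h | h
    · have hh : x ^ i * x ^ k = 0 := by rw [← pow_add, pow_eq_zero_of_le h hx]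
      linear_combination (Ring.inverse (i.factorial : A) * Ring.inverse (j.factorial : A) *
        Ring.inverse (k.factorial : A) * Ring.inverse (l.factorial : A) * (y ^ j * y ^ l)) * hh
    · have hh : y ^ j * y ^ l = 0 := by rw [← pow_add, pow_eq_zero_of_le (by omega) hy]
      linear_combination (Ring.inverse (i.factorial : A) * Ring.inverse (j.factorial : A) *
        Ring.inverse (k.factorial : A) * Ring.inverse (l.factorial : A) * (x ^ i * x ^ k)) * hh
  all_goals simp

theorem carry_pow_p {x y : A} (hx : x ^ p = 0) (hy : y ^ p = 0) : carry p x y ^ p = 0 :=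
  pow_eq_zero_of_le hpf.out.two_le (by rw [pow_two]; exact carry_sq p hx hy)

theorem map_carry {B : Type u} [CommRing B] (φ : A →+* B) (hp : (p : A) = 0) (x y : A) :
    φ (carry p x y) = carry p (φ x) (φ y) := by
  rw [carry, ← coeff_map, Polynomial.map_mul, map_expp p φ hp, map_expp p φ hp]
  rfl

/-- Two truncated exponentials at one level add up with a carry to the next level. -/
theorem expp_mul_expp (hp : (p : A) = 0) (x y : A) (hx : x ^ p = 0) (hy : y ^ p = 0) (n : ℕ) :
    expp p x (p ^ n) * expp p y (p ^ n) = expp p (x + y) (p ^ n) * expp p (carry p x y) (p ^ (n + 1)) := by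
  suffices h : expp p x 1 * expp p y 1 = expp p (x + y) 1 * expp p (carry p x y) p by
    have e := congrArg (fun P : A[X] => P.comp (X ^ p ^ n)) h
    simp only [mul_comp, expp_comp, mul_one] at e
    rw [pow_succ]
    exact e
  have hL : IsCharPoly (expp p x 1 * expp p y 1) := by
    simpa using (isCharPoly_expp p hp x hx 0).mul (isCharPoly_expp p hp y hy 0)
  have hdeg : ∀ a : A, (expp p a 1).natDegree ≤ p - 1 := fun a =>
    natDegree_le_iff_coeff_eq_zero.2 fun k hk => by rw [coeff_expp_one, if_neg (by omega)]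
  have hd : (expp p x 1 * expp p y 1).natDegree < p ^ 2 := by
    refine lt_of_le_of_lt (natDegree_mul_le.trans (Nat.add_le_add (hdeg x) (hdeg y))) ?_
    have := hpf.out.two_le
    rw [pow_two]
    nlinarith [Nat.sub_add_cancel hpf.out.one_le]
  have e := eq_prod_expp p hp hL 2 hd
  simp only [prod_range_succ, Finset.range_zero, Finset.prod_empty, one_mul, pow_zero, pow_one] at e
  have h1 : (expp p x 1 * expp p y 1).coeff 1 = x + y := by
    rw [coeff_mul, Finset.Nat.antidiagonal_succ, sum_cons, sum_map]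
    simp [coeff_expp_one, hpf.out.pos, hpf.out.one_lt, add_comm]
  rw [h1] at e
  exact e

omit hpf in
theorem cf_pow_mul_pow (a b i j : ℕ) :
    cf ((MvPolynomial.X 0 : MvPolynomial (Fin 2) A) ^ a * MvPolynomial.X 1 ^ b) i j =
      if a = i ∧ b = j then 1 else 0 := by
  rw [cf, map_mul, map_pow, map_pow, MvPolynomial.aeval_X, MvPolynomial.aeval_X]
  simp only [Matrix.cons_val_zero, Matrix.cons_val_one]
  rw [← Polynomial.C_pow, coeff_C_mul_X_pow]
  by_cases h : j = b
  · subst h
    rw [if_pos rfl, coeff_X_pow]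
    simp [eq_comm]
  · rw [if_neg h, coeff_zero, if_neg fun h' => h h'.2.symm]

theorem cf_carry (hp : (p : A) = 0) {i j : ℕ} (hi : i < p) (hj : j < p) :
    cf (carry p (MvPolynomial.X 0 : MvPolynomial (Fin 2) A) (MvPolynomial.X 1)) i j =
      if i + j = p then Ring.inverse (i.factorial : A) * Ring.inverse (j.factorial : A) else 0 := by
  rw [carry_eq_sum, GrothLib.GaDual.cf_sum, sum_eq_single i, GrothLib.GaDual.cf_sum, sum_eq_single j]
  · by_cases h : i + j = p
    · rw [if_pos h, if_pos h, ← map_invFac p MvPolynomial.C hp hi, ← map_invFac p MvPolynomial.C hp hj, ← map_mul,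
        GrothLib.GaDual.cf_C_mul, cf_pow_mul_pow, if_pos ⟨rfl, rfl⟩, mul_one]
    · rw [if_neg h, if_neg h, GrothLib.GaDual.cf_zero]
  · intro b hb hne
    split_ifs with h
    · rw [← map_invFac p MvPolynomial.C hp hi, ← map_invFac p MvPolynomial.C hp (mem_range.1 hb), ← map_mul,
        GrothLib.GaDual.cf_C_mul, cf_pow_mul_pow, if_neg (fun h' => hne h'.2), mul_zero]
    · rw [GrothLib.GaDual.cf_zero]
  · intro h; exact absurd (mem_range.2 hj) h
  · intro a ha hne
    rw [GrothLib.GaDual.cf_sum]
    refine sum_eq_zero fun b hb => ?_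
    split_ifs with h
    · rw [← map_invFac p MvPolynomial.C hp (mem_range.1 ha), ← map_invFac p MvPolynomial.C hp (mem_range.1 hb),
        ← map_mul, GrothLib.GaDual.cf_C_mul, cf_pow_mul_pow, if_neg (fun h' => hne h'.1), mul_zero]
    · rw [GrothLib.GaDual.cf_zero]
  · intro h; exact absurd (mem_range.2 hi) h

omit hpf in
theorem cf_mul_one (F G : MvPolynomial (Fin 2) A) (j : ℕ) :
    cf (F * G) 1 j = ∑ x ∈ antidiagonal j, (cf F 0 x.1 * cf G 1 x.2 + cf F 1 x.1 * cf G 0 x.2) := by
  rw [cf, map_mul, coeff_mul, finsetSum_coeff]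
  refine sum_congr rfl fun x _ => ?_
  rw [coeff_mul, Finset.Nat.antidiagonal_succ, sum_cons, sum_map]
  simp [cf]

theorem cf_aeval_add_mul_carry (hp : (p : A) = 0) (f : A[X]) {j : ℕ} (hj : j < p) :
    cf (Polynomial.aeval (MvPolynomial.X 0 + MvPolynomial.X 1 : MvPolynomial (Fin 2) A) f *
      carry p (MvPolynomial.X 0) (MvPolynomial.X 1)) 1 j =
      if j = p - 1 then f.coeff 0 * Ring.inverse ((p - 1).factorial : A) else 0 := by
  have hp1 := hpf.out.one_lt
  rw [cf_mul_one, sum_eq_single (0, j)]
  · rw [cf_carry p hp hp1 hj, cf_carry p hp (by omega) hj, if_neg (show ¬ 0 + j = p by omega),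
      mul_zero, add_zero, GrothLib.GaDual.cf_aeval_add]
    by_cases h : j = p - 1
    · subst h
      rw [if_pos (by omega), if_pos rfl]
      simp
    · rw [if_neg (by omega), if_neg h, mul_zero]
  · rintro ⟨a, b⟩ hab hne
    rw [Finset.mem_antidiagonal] at hab
    have ha : a ≠ 0 := fun h => hne (by subst h; simp only [zero_add] at hab; rw [hab])
    rw [cf_carry p hp hp1 (show b < p by omega), cf_carry p hp (by omega) (show b < p by omega),
      if_neg (by omega), if_neg (by omega), mul_zero, mul_zero, add_zero]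
  · intro h; simp at h

/-- The values of a character of the dual on two consecutive levels. -/
theorem coeff_eq_of_relation (hp : (p : A) = 0) (f g : A[X]) (hf0 : f.coeff 0 = 1) (hg0 : g.coeff 0 = 1)
    (h : Ideal.Quotient.mk
        (Ideal.span {(MvPolynomial.X 0 ^ p : MvPolynomial (Fin 2) A), MvPolynomial.X 1 ^ p})
        (Polynomial.aeval (MvPolynomial.X 0 : MvPolynomial (Fin 2) A) f *
          Polynomial.aeval (MvPolynomial.X 1 : MvPolynomial (Fin 2) A) f) =
      Ideal.Quotient.mk
        (Ideal.span {(MvPolynomial.X 0 ^ p : MvPolynomial (Fin 2) A), MvPolynomial.X 1 ^ p})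
        (Polynomial.aeval (MvPolynomial.X 0 + MvPolynomial.X 1 : MvPolynomial (Fin 2) A) f *
          (1 + MvPolynomial.C (g.coeff 1) * carry p (MvPolynomial.X 0) (MvPolynomial.X 1)))) :
    (∀ j, j < p → f.coeff j = Ring.inverse (j.factorial : A) * f.coeff 1 ^ j) ∧
      g.coeff 1 = f.coeff 1 ^ p := by
  have hp1 := hpf.out.one_lt
  rw [Ideal.Quotient.eq, Ideal.mem_span_pair] at h
  obtain ⟨P, Q, hPQ⟩ := h
  have key : ∀ j, j < p → f.coeff 1 * f.coeff j = ((1 + j).choose 1 : A) * f.coeff (1 + j) +
      g.coeff 1 * (if j = p - 1 then Ring.inverse ((p - 1).factorial : A) else 0) := by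
    intro j hj
    have e := congrArg (fun z => cf z 1 j) hPQ
    simp only [GrothLib.GaDual.cf_add, GrothLib.GaDual.cf_sub, GrothLib.GaDual.cf_mul_X_pow_zero P hp1,
      GrothLib.GaDual.cf_mul_X_pow_one Q hj, GrothLib.GaDual.cf_aeval_mul, mul_add, mul_one, mul_left_comm _ (MvPolynomial.C (g.coeff 1)),
      GrothLib.GaDual.cf_C_mul, GrothLib.GaDual.cf_aeval_add, cf_aeval_add_mul_carry p hp f hj, hf0, one_mul] at e
    linear_combination -e
  have hind : ∀ j, j < p → f.coeff j = Ring.inverse (j.factorial : A) * f.coeff 1 ^ j := by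
    intro j
    induction j with
    | zero => intro; simp [hf0]
    | succ j ih =>
      intro hj
      have e := key j (by omega)
      rw [if_neg (by omega), mul_zero, add_zero, ih (by omega), Nat.choose_one_right, add_comm 1 j] at e
      have hu := isUnit_factorial (A := A) p hp hj
      refine hu.mul_left_cancel ?_
      rw [Ring.mul_inverse_cancel_left _ _ hu, Nat.factorial_succ, Nat.cast_mul, mul_comm ((j + 1 : ℕ) : A),
        mul_assoc, ← e, pow_succ', mul_left_comm (f.coeff 1), ← mul_assoc,
        Ring.mul_inverse_cancel _ (isUnit_factorial p hp (by omega)), one_mul]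
  refine ⟨hind, ?_⟩
  have e := key (p - 1) (by omega)
  rw [if_pos rfl, hind (p - 1) (by omega), Nat.choose_one_right, show 1 + (p - 1) = p by omega, hp,
    zero_mul, zero_add] at e
  have hu := isUnit_factorial (A := A) p hp (show p - 1 < p by omega)
  have e2 := congrArg (((p - 1).factorial : A) * ·) e
  rw [mul_left_comm (f.coeff 1), Ring.mul_inverse_cancel_left _ _ hu, mul_left_comm,
    Ring.mul_inverse_cancel _ hu, mul_one, ← pow_succ', Nat.sub_add_cancel hpf.out.one_le] at e2
  exact e2.symm

/-- Evaluating a polynomial at a square-zero element. -/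
theorem eval₂_sq_zero {B : Type u} [CommRing B] (φ : A →+* B) (g : A[X]) {w : B} (hw : w * w = 0) :
    g.eval₂ φ w = φ (g.coeff 0) + φ (g.coeff 1) * w := by
  rw [eval₂_eq_sum_range' φ (show g.natDegree < g.natDegree + 2 by omega),
    ← Finset.sum_subset (Finset.range_subset_range.2 (show 2 ≤ g.natDegree + 2 by omega)) fun n _ hn => by
      rw [Finset.mem_range, not_lt] at hn
      rw [pow_eq_zero_of_le hn (by rw [pow_two]; exact hw), mul_zero]]
  simp [Finset.sum_range_succ]

/-- Evaluation of `exp_p(aX^q)`. -/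
theorem eval₂_expp {B : Type u} [CommRing B] (φ : A →+* B) (a : A) (q : ℕ) (t : B) :
    (expp p a q).eval₂ φ t = ∑ j ∈ range p, φ (Ring.inverse (j.factorial : A)) * (φ a * t ^ q) ^ j := by
  rw [expp, eval₂_finsetSum]
  refine sum_congr rfl fun j _ => ?_
  rw [eval₂_mul, eval₂_C, eval₂_X_pow, map_mul, map_pow, mul_pow, ← pow_mul, mul_comm j q]
  ring

theorem eval₂_of_coeff {B : Type u} [CommRing B] (φ : A →+* B) (f : A[X]) (c : A)
    (hf : ∀ j, j < p → f.coeff j = Ring.inverse (j.factorial : A) * c ^ j) {a : B} (ha : a ^ p = 0) :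
    f.eval₂ φ a = ∑ j ∈ range p, φ (Ring.inverse (j.factorial : A)) * (φ c * a) ^ j := by
  rw [eval₂_eq_sum_range' φ (show f.natDegree < max p (f.natDegree + 1) by omega),
    ← Finset.sum_subset (Finset.range_subset_range.2 (le_max_left p (f.natDegree + 1))) fun n _ hn => by
      rw [Finset.mem_range, not_lt] at hn
      rw [pow_eq_zero_of_le hn ha, mul_zero]]
  refine sum_congr rfl fun j hj => ?_
  rw [hf j (mem_range.1 hj), map_mul, map_pow, mul_pow]
  ring

end

end GrothLib.GaDualP13
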