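import Groth.Agent.Lib.GaDualP13.Reduce

/-!
# Double duality of the additive group in characteristic `p`
-/

set_option autoImplicit false
set_option backward.isDefEq.respectTransparency false

universe u

open CategoryTheory CategoryTheory.Limits Opposite AlgebraicGeometry

noncomputable section

namespace GrothLib.GaDualP13

open GrothLib.GaDualQ13 (GaSh GmSh CharOn val res extOb extHom toExt Trunc toExt_bijective appTop_extHom exists_lift exists_trunc_lift trunc_X_pow char_ext val_zero)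
open GrothLib.GaDual (expp)

variable {X : Scheme.{u}} (p : ℕ) [hpf : Fact p.Prime]

omit hpf in
theorem natCast_eq_zero_of_over (hp : (p : Γ(X, ⊤)) = 0) (U : Over X) : (p : Γ(U.left, ⊤)) = 0 :=
  (map_natCast U.hom.appTop.hom p).symm.trans ((congrArg _ hp).trans (map_zero _))

variable (hp : (p : Γ(X, ⊤)) = 0)

/-- The character `t ↦ exp_p(a t^{p^n})`. -/
def sgl {V : Over X} (a : Γ(V.left, ⊤)) (ha : a ^ p = 0) (n : ℕ) : CharOn V :=
  polyChar (expp p a (p ^ n)) (isCharPoly_expp p (natCast_eq_zero_of_over p hp V) a ha n)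

theorem sgl_congr {V : Over X} {a b : Γ(V.left, ⊤)} (e : a = b) (ha : a ^ p = 0) (n : ℕ) :
    sgl p hp a ha n = sgl p hp b (e ▸ ha) n := by subst e; rfl

omit hpf in
theorem map_pow_p {A B : Type u} [CommRing A] [CommRing B] (φ : A →+* B) {a : A} (ha : a ^ p = 0) :
    φ a ^ p = 0 := by rw [← map_pow, ha, map_zero]

theorem res_sgl {V V' : Over X} (h : V' ⟶ V) (a : Γ(V.left, ⊤)) (ha : a ^ p = 0) (n : ℕ) :
    res h (sgl p hp a ha n) = sgl p hp (h.left.appTop a) (map_pow_p p h.left.appTop.hom ha) n :=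
  (res_polyChar h _ _).trans
    (polyChar_congr (map_expp p h.left.appTop.hom (natCast_eq_zero_of_over p hp V) a (p ^ n)) _)

theorem sgl_zero {V : Over X} (n : ℕ) :
    sgl p hp (0 : Γ(V.left, ⊤)) (zero_pow hpf.out.ne_zero) n = 0 := by
  refine char_ext fun U g t => ?_
  rw [val_zero, sgl, val_polyChar, eval₂_expp, Finset.sum_eq_single 0]
  · simp
  · intro j _ hj
    rw [map_zero, zero_mul, zero_pow hj, mul_zero]
  · intro h; exact absurd (Finset.mem_range.2 hpf.out.pos) h

omit hpf in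
/-- The structure map of `A[x]/(x^p)`. -/
def truncMap (U : Over X) : Γ(U.left, ⊤) →+* Trunc Γ(U.left, ⊤) p :=
  (Ideal.Quotient.mk _).comp Polynomial.C

omit hpf in
theorem toExt_X_pow (U : Over X) [IsAffine U.left] :
    toExt U (truncMap p U) (Ideal.Quotient.mk _ Polynomial.X) ^ p = 0 :=
  map_pow_p p (toExt U (truncMap p U)) (trunc_X_pow p)

theorem exists_level {T : Over X} (Φ : BiOn T) {U : Over X} [IsAffine U.left] (g : U ⟶ T) (n : ℕ) :
    ∃ f : Polynomial Γ(U.left, ⊤), ∀ (V : Over X) (h : V ⟶ U) (a : Γ(V.left, ⊤)) (ha : a ^ p = 0),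
      val2 Φ (h ≫ g) (sgl p hp a ha n) = f.eval₂ h.left.appTop.hom a := by
  obtain ⟨r, hr⟩ := (toExt_bijective U (truncMap p U)).2
    (val2 Φ (extHom U (truncMap p U) ≫ g) (sgl p hp _ (toExt_X_pow p U) n))
  obtain ⟨f, rfl⟩ := Ideal.Quotient.mk_surjective r
  refine ⟨f, fun V h a ha => ?_⟩
  obtain ⟨ψ, hψ⟩ := exists_trunc_lift h.left.appTop.hom p a ha
  obtain ⟨m, hm, hm'⟩ := exists_lift U (truncMap p U) h ψ
    (RingHom.ext fun z => (hψ _).trans (Polynomial.eval₂_C _ _))
  have e1 : sgl p hp a ha n = res m (sgl p hp _ (toExt_X_pow p U) n) :=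
    (sgl_congr p hp ((hm' _).trans ((hψ _).trans (Polynomial.eval₂_X _ _))).symm ha n).trans
      (res_sgl p hp m _ _ n).symm
  have e2 : (m ≫ extHom U (truncMap p U) ≫ g) = h ≫ g :=
    (Category.assoc _ _ _).symm.trans (congrArg (· ≫ g) hm)
  exact (congrArg (val2 Φ (h ≫ g)) e1).trans ((val2_congr Φ e2.symm _).trans
    ((val2_comp Φ (extHom U (truncMap p U) ≫ g) m _).trans
      ((congrArg m.left.appTop hr.symm).trans ((hm' _).trans (hψ f)))))

omit hpf in
/-- The ideal `(X₀ᵖ, X₁ᵖ)`. -/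
def pairIdeal (U : Over X) : Ideal (MvPolynomial (Fin 2) Γ(U.left, ⊤)) :=
  Ideal.span {(MvPolynomial.X 0 ^ p : MvPolynomial (Fin 2) Γ(U.left, ⊤)), MvPolynomial.X 1 ^ p}

omit hpf in
/-- The structure map of `A[X₀,X₁]/(X₀ᵖ, X₁ᵖ)`. -/
def pairMap (U : Over X) : Γ(U.left, ⊤) →+* MvPolynomial (Fin 2) Γ(U.left, ⊤) ⧸ pairIdeal p U :=
  (Ideal.Quotient.mk _).comp MvPolynomial.C

omit hpf in
/-- Functions on the two-variable neighbourhood. -/
def pairFn (U : Over X) [IsAffine U.left] :
    MvPolynomial (Fin 2) Γ(U.left, ⊤) →+* Γ((extOb U (pairMap p U)).left, ⊤) :=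
  (toExt U (pairMap p U)).comp (Ideal.Quotient.mk _)

omit hpf in
theorem pairFn_C (U : Over X) [IsAffine U.left] (z : Γ(U.left, ⊤)) :
    pairFn p U (MvPolynomial.C z) = (extHom U (pairMap p U)).left.appTop z :=
  (appTop_extHom U (pairMap p U) z).symm

omit hpf in
theorem pairFn_aeval (U : Over X) [IsAffine U.left] (z : MvPolynomial (Fin 2) Γ(U.left, ⊤))
    (f : Polynomial Γ(U.left, ⊤)) :
    pairFn p U (Polynomial.aeval z f) = f.eval₂ (extHom U (pairMap p U)).left.appTop.hom (pairFn p U z) :=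
  (Polynomial.hom_eval₂ f (algebraMap _ _) (pairFn p U) z).trans
    (congrArg (fun r => f.eval₂ r (pairFn p U z))
      (RingHom.ext (appTop_extHom U (pairMap p U))).symm)

omit hpf in
theorem pairFn_X_pow (U : Over X) [IsAffine U.left] (i : Fin 2) :
    pairFn p U (MvPolynomial.X i) ^ p = 0 := by
  refine (map_pow (pairFn p U) _ _).symm.trans ?_
  refine (congrArg (toExt U (pairMap p U)) (Ideal.Quotient.eq_zero_iff_mem.2
    (Ideal.subset_span ?_))).trans (map_zero _)
  fin_cases i <;> simp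

theorem add_pow_p {A : Type u} [CommRing A] (hpA : (p : A) = 0) {x y : A} (hx : x ^ p = 0) (hy : y ^ p = 0) :
    (x + y) ^ p = 0 := by
  obtain ⟨r, hr⟩ := exists_add_pow_prime_eq hpf.out x y
  rw [hr, hx, hy, hpA]
  ring

theorem sgl_add_sgl {V : Over X} (x y : Γ(V.left, ⊤)) (hx : x ^ p = 0) (hy : y ^ p = 0) (n : ℕ) :
    sgl p hp x hx n + sgl p hp y hy n =
      sgl p hp (x + y) (add_pow_p p (natCast_eq_zero_of_over p hp V) hx hy) n +
        sgl p hp (carry p x y) (carry_pow_p p hx hy) (n + 1) := by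
  refine char_ext fun U g t => ?_
  rw [GrothLib.GaDualQ13.val_add_char, GrothLib.GaDualQ13.val_add_char]
  unfold sgl
  rw [val_polyChar, val_polyChar, val_polyChar, val_polyChar, ← Polynomial.eval₂_mul, ← Polynomial.eval₂_mul,
    expp_mul_expp p (natCast_eq_zero_of_over p hp V) x y hx hy n]

theorem level_relation {T : Over X} (Φ : BiOn T) {U : Over X} [IsAffine U.left] (g : U ⟶ T) (n : ℕ)
    (f f' : Polynomial Γ(U.left, ⊤))
    (hf : ∀ (V : Over X) (h : V ⟶ U) (a : Γ(V.left, ⊤)) (ha : a ^ p = 0),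
      val2 Φ (h ≫ g) (sgl p hp a ha n) = f.eval₂ h.left.appTop.hom a)
    (hf' : ∀ (V : Over X) (h : V ⟶ U) (a : Γ(V.left, ⊤)) (ha : a ^ p = 0),
      val2 Φ (h ≫ g) (sgl p hp a ha (n + 1)) = f'.eval₂ h.left.appTop.hom a) :
    (∀ j, j < p → f.coeff j = Ring.inverse (j.factorial : Γ(U.left, ⊤)) * f.coeff 1 ^ j) ∧
      f'.coeff 1 = f.coeff 1 ^ p := by
  have hc0 : ∀ (m : ℕ) (F : Polynomial Γ(U.left, ⊤)), (∀ (V : Over X) (h : V ⟶ U) (a : Γ(V.left, ⊤)) (ha : a ^ p = 0),
      val2 Φ (h ≫ g) (sgl p hp a ha m) = F.eval₂ h.left.appTop.hom a) → F.coeff 0 = 1 := fun m F hF => by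
    have e := hF U (𝟙 U) 0 (zero_pow hpf.out.ne_zero)
    rw [sgl_zero, val2_zero, Polynomial.eval₂_at_zero] at e
    exact (e.trans (ConcreteCategory.congr_hom (Scheme.Hom.id_appTop (X := U.left)) _)).symm
  have h0 := hc0 n f hf
  have h0' := hc0 (n + 1) f' hf'
  let E := extHom U (pairMap p U)
  have hx := pairFn_X_pow p U 0
  have hy := pairFn_X_pow p U 1
  have hw : pairFn p U (carry p (MvPolynomial.X 0) (MvPolynomial.X 1)) =
      carry p (pairFn p U (MvPolynomial.X 0)) (pairFn p U (MvPolynomial.X 1)) :=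
    map_carry p (pairFn p U) ((map_natCast MvPolynomial.C p).symm.trans
      ((congrArg _ (natCast_eq_zero_of_over p hp U)).trans (map_zero _))) _ _
  have hg : f'.eval₂ E.left.appTop.hom (carry p (pairFn p U (MvPolynomial.X 0)) (pairFn p U (MvPolynomial.X 1))) =
      pairFn p U (1 + MvPolynomial.C (f'.coeff 1) * carry p (MvPolynomial.X 0) (MvPolynomial.X 1)) :=
    (eval₂_sq_zero E.left.appTop.hom f' (carry_sq p hx hy)).trans
      ((congrArg₂ (· + ·) ((congrArg E.left.appTop.hom h0').trans ((map_one _).trans (map_one (pairFn p U)).symm))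
        ((congrArg₂ (· * ·) (pairFn_C p U _).symm hw.symm).trans (map_mul (pairFn p U) _ _).symm)).trans
          (map_add (pairFn p U) _ _).symm)
  refine coeff_eq_of_relation p (natCast_eq_zero_of_over p hp U) f f' h0 h0'
    ((toExt_bijective U (pairMap p U)).1 ?_)
  show pairFn p U _ = pairFn p U _
  calc pairFn p U (Polynomial.aeval (MvPolynomial.X 0) f * Polynomial.aeval (MvPolynomial.X 1) f)
      = f.eval₂ E.left.appTop.hom (pairFn p U (MvPolynomial.X 0)) *
          f.eval₂ E.left.appTop.hom (pairFn p U (MvPolynomial.X 1)) :=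
        (map_mul _ _ _).trans (congrArg₂ (· * ·) (pairFn_aeval p U _ f) (pairFn_aeval p U _ f))
    _ = val2 Φ (E ≫ g) (sgl p hp _ hx n) * val2 Φ (E ≫ g) (sgl p hp _ hy n) :=
        congrArg₂ (· * ·) (hf _ E _ hx).symm (hf _ E _ hy).symm
    _ = val2 Φ (E ≫ g) (sgl p hp _ (add_pow_p p (natCast_eq_zero_of_over p hp _) hx hy) n) *
          val2 Φ (E ≫ g) (sgl p hp _ (carry_pow_p p hx hy) (n + 1)) :=
        (val2_add Φ _ _ _).symm.trans ((congrArg (val2 Φ (E ≫ g)) (sgl_add_sgl p hp _ _ hx hy n)).trans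
          (val2_add Φ _ _ _))
    _ = f.eval₂ E.left.appTop.hom (pairFn p U (MvPolynomial.X 0) + pairFn p U (MvPolynomial.X 1)) *
          f'.eval₂ E.left.appTop.hom (carry p (pairFn p U (MvPolynomial.X 0)) (pairFn p U (MvPolynomial.X 1))) :=
        congrArg₂ (· * ·) (hf _ E _ _) (hf' _ E _ _)
    _ = pairFn p U (Polynomial.aeval (MvPolynomial.X 0 + MvPolynomial.X 1) f) *
          pairFn p U (1 + MvPolynomial.C (f'.coeff 1) * carry p (MvPolynomial.X 0) (MvPolynomial.X 1)) :=
        congrArg₂ (· * ·) ((congrArg (fun w => f.eval₂ E.left.appTop.hom w) (map_add (pairFn p U) _ _).symm).trans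
          (pairFn_aeval p U _ f).symm) hg
    _ = _ := (map_mul _ _ _).symm

theorem isCharPoly_prod {A : Type u} [CommRing A] (F : ℕ → Polynomial A) (h : ∀ n, IsCharPoly (F n)) (m : ℕ) :
    IsCharPoly (∏ n ∈ Finset.range m, F n) := by
  induction m with
  | zero => simpa using IsCharPoly.one
  | succ m ih =>
    rw [Finset.prod_range_succ]
    exact ih.mul (h m)

theorem val2_polyChar_prod {T : Over X} (Φ : BiOn T) {V : Over X} (g : V ⟶ T)
    (F : ℕ → Polynomial Γ(V.left, ⊤)) (h : ∀ n, IsCharPoly (F n)) (m : ℕ) :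
    val2 Φ g (polyChar (∏ n ∈ Finset.range m, F n) (isCharPoly_prod F h m)) =
      ∏ n ∈ Finset.range m, val2 Φ g (polyChar (F n) (h n)) := by
  induction m with
  | zero => rw [polyChar_congr (Finset.prod_range_zero F), polyChar_one, val2_zero, Finset.prod_range_zero]
  | succ m ih =>
    rw [polyChar_congr (Finset.prod_range_succ F m), polyChar_mul _ _ (isCharPoly_prod F h m) (h m), val2_add,
      ih, Finset.prod_range_succ]

include hp in
theorem exists_isEval_affine {T : Over X} (Φ : BiOn T) {U : Over X} [IsAffine U.left] (g : U ⟶ T) :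
    ∃ b, IsEval Φ g b := by
  choose f hf using exists_level p hp Φ g
  have hrel := fun n => level_relation p hp Φ g n (f n) (f (n + 1)) (hf n) (hf (n + 1))
  have hc : ∀ n, (f n).coeff 1 = (f 0).coeff 1 ^ p ^ n := fun n => by
    induction n with
    | zero => rw [pow_zero, pow_one]
    | succ n ih => rw [(hrel n).2, ih, ← pow_mul, pow_succ]
  refine ⟨(f 0).coeff 1, isEval_of_affine Φ g _ fun V _ h F hF => ?_⟩
  have hpV := natCast_eq_zero_of_over p hp V
  have hF' := eq_prod_expp p hpV hF (F.natDegree + 1)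
    ((Nat.lt_succ_self _).trans (Nat.lt_pow_self hpf.out.one_lt))
  rw [polyChar_congr hF', val2_polyChar_prod Φ (h ≫ g) (fun n => expp p (F.coeff (p ^ n)) (p ^ n))
    (fun n => isCharPoly_expp p hpV _ (coeff_pow_eq_zero p hpV hF n) n)]
  conv_rhs => rw [hF', Polynomial.eval_prod]
  refine Finset.prod_congr rfl fun n _ => ?_
  refine (hf n V h _ (coeff_pow_eq_zero p hpV hF n)).trans ?_
  rw [eval₂_of_coeff p h.left.appTop.hom (f n) _ (hrel n).1 (coeff_pow_eq_zero p hpV hF n),
    Polynomial.eval, eval₂_expp]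
  refine Finset.sum_congr rfl fun j hj => ?_
  rw [RingHom.id_apply, RingHom.id_apply, map_invFac p _ (natCast_eq_zero_of_over p hp U) (Finset.mem_range.1 hj),
    hc n, map_pow, mul_comm ((h.left.appTop.hom _) ^ p ^ n)]

include hp in
theorem isIso_toDoubleDual_of_charP :
    IsIso (CGrpSh2.toDoubleDual Scheme.fppfPrecoverage (GaSh X)) :=
  isIso_toDoubleDual fun T U Φ g hU => exists_isEval_affine p hp Φ g

end GrothLib.GaDualP13
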