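import Groth.Agent.Lib.GaDualQ13.Char
import Groth.Agent.Lib.GaDualP13.Ring

/-!
# Double duality of the additive group: reduction to affine objects
-/

set_option autoImplicit false
set_option backward.isDefEq.respectTransparency false

universe u

open CategoryTheory CategoryTheory.Limits Opposite AlgebraicGeometry

noncomputable section

namespace GrothLib.GaDualP13

open GrothLib.GaDualQ13 (GaSh GmSh CharOn gaSec gaVal gmSec gmVal val res extOb extHom toExt Trunc gmVal_map gaVal_map gaSec_gaVal gaVal_gaSec gmVal_injective gmVal_gmSec gmVal_add gmVal_zero gaVal_add val_comp val_add val_res val_zero val_add_char char_ext isUnit_gmVal toExt_bijective appTop_extHom exists_lift eq_of_cover exists_trunc_lift trunc_X_pow)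

local notation "fppf" => Scheme.fppfPrecoverage

variable {X : Scheme.{u}}

/-! ### Characters given by polynomials -/

/-- The value of a polynomial character on one object. -/
def polyApp {T U : Over X} (f : Polynomial Γ(T.left, ⊤)) (hf : IsCharPoly f) (g : U ⟶ T)
    (x : (GaSh X).obj.obj (op U)) : (GmSh X).obj.obj (op U) :=
  gmSec (hf.isUnit_eval₂ g.left.appTop.hom (gaVal x)).unit

theorem gmVal_polyApp {T U : Over X} (f : Polynomial Γ(T.left, ⊤)) (hf : IsCharPoly f) (g : U ⟶ T)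
    (x : (GaSh X).obj.obj (op U)) : gmVal (polyApp f hf g x) = f.eval₂ g.left.appTop.hom (gaVal x) :=
  (gmVal_gmSec _).trans (IsUnit.unit_spec _)

/-- The value of a polynomial character as a homomorphism. -/
def polyHom {T U : Over X} (f : Polynomial Γ(T.left, ⊤)) (hf : IsCharPoly f) (g : U ⟶ T) :
    (GaSh X).obj.obj (op U) ⟶ (GmSh X).obj.obj (op U) :=
  ConcreteCategory.ofHom (C := AddCommGrpCat.{u + 1}) (X := (GaSh X).obj.obj (op U)) (Y := (GmSh X).obj.obj (op U))
    (AddMonoidHom.mk' (polyApp f hf g) fun x y => gmVal_injective (by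
      rw [gmVal_add, gmVal_polyApp, gmVal_polyApp, gmVal_polyApp, gaVal_add]
      exact hf.eval₂_add _ _ _))

theorem polyHom_naturality {T U V : Over X} (f : Polynomial Γ(T.left, ⊤)) (hf : IsCharPoly f) (g : U ⟶ T)
    (g' : V ⟶ T) (h : V ⟶ U) (e : h ≫ g = g') :
    (GaSh X).obj.map h.op ≫ polyHom f hf g' = polyHom f hf g ≫ (GmSh X).obj.map h.op := by
  refine AddCommGrpCat.ext fun x => gmVal_injective ?_
  show gmVal (polyApp f hf g' ((GaSh X).obj.map h.op x)) = gmVal ((GmSh X).obj.map h.op (polyApp f hf g x))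
  rw [gmVal_polyApp, gmVal_map, gmVal_polyApp, gaVal_map, ← e]
  refine Eq.trans ?_ (Polynomial.hom_eval₂ f g.left.appTop.hom h.left.appTop.hom _).symm
  rw [Over.comp_left, Scheme.Hom.comp_appTop]
  rfl

/-- The character given by a polynomial. -/
def polyChar {T : Over X} (f : Polynomial Γ(T.left, ⊤)) (hf : IsCharPoly f) : CharOn T :=
  ⟨{ app := fun W => polyHom f hf W.unop.hom
     naturality := fun W W' h =>
       polyHom_naturality f hf W.unop.hom W'.unop.hom h.unop.left (Over.w h.unop) }⟩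

theorem val_polyChar {T : Over X} (f : Polynomial Γ(T.left, ⊤)) (hf : IsCharPoly f) {U : Over X} (g : U ⟶ T)
    (t : Γ(U.left, ⊤)) : val (polyChar f hf) g t = f.eval₂ g.left.appTop.hom t :=
  (gmVal_polyApp f hf _ _).trans (congrArg (fun s => f.eval₂ g.left.appTop.hom s) (gaVal_gaSec t))

theorem polyChar_congr {T : Over X} {f f' : Polynomial Γ(T.left, ⊤)} (e : f = f') (hf : IsCharPoly f) :
    polyChar f hf = polyChar f' (e ▸ hf) := by subst e; rfl

theorem res_polyChar {T T' : Over X} (h : T' ⟶ T) (f : Polynomial Γ(T.left, ⊤)) (hf : IsCharPoly f) :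
    res h (polyChar f hf) = polyChar (f.map h.left.appTop.hom) (hf.map _) := by
  refine char_ext fun U g t => ?_
  rw [val_res, val_polyChar, val_polyChar, Polynomial.eval₂_map, Over.comp_left, Scheme.Hom.comp_appTop]
  rfl

theorem polyChar_mul {T : Over X} (f f' : Polynomial Γ(T.left, ⊤)) (hf : IsCharPoly f) (hf' : IsCharPoly f') :
    polyChar (f * f') (hf.mul hf') = polyChar f hf + polyChar f' hf' := by
  refine char_ext fun U g t => ?_
  rw [val_add_char, val_polyChar, val_polyChar, val_polyChar, Polynomial.eval₂_mul]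

theorem polyChar_one {T : Over X} : polyChar (1 : Polynomial Γ(T.left, ⊤)) IsCharPoly.one = 0 := by
  refine char_ext fun U g t => ?_
  rw [val_polyChar, val_zero, Polynomial.eval₂_one]

/-- Characters over an affine object are polynomial. -/
theorem exists_eq_polyChar {U : Over X} [IsAffine U.left] (χ : CharOn U) :
    ∃ (f : Polynomial Γ(U.left, ⊤)) (hf : IsCharPoly f), χ = polyChar f hf := by
  let φ := (Polynomial.C : Γ(U.left, ⊤) →+* Polynomial Γ(U.left, ⊤))
  obtain ⟨f, hf⟩ := (toExt_bijective U φ).2 (val χ (extHom U φ) (toExt U φ Polynomial.X))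
  have key : ∀ (V : Over X) (g : V ⟶ U) (t : Γ(V.left, ⊤)), val χ g t = f.eval₂ g.left.appTop.hom t := by
    intro V g t
    obtain ⟨m, hm, hm'⟩ := exists_lift U φ g (Polynomial.eval₂RingHom g.left.appTop.hom t)
      (RingHom.ext fun z => Polynomial.eval₂_C _ _)
    have := val_comp χ (extHom U φ) m (toExt U φ Polynomial.X)
    rw [hm, ← hf, hm', hm'] at this
    simpa using this
  have hu : IsUnit f := by
    have h1 : IsUnit (toExt U φ f) := hf ▸ isUnit_gmVal _
    exact (MulEquiv.isUnit_map (RingEquiv.ofBijective (toExt U φ) (toExt_bijective U φ))).1 h1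
  let φ2 := (MvPolynomial.C : Γ(U.left, ⊤) →+* MvPolynomial (Fin 2) Γ(U.left, ⊤))
  have hc : (extHom U φ2).left.appTop.hom = (toExt U φ2).comp φ2 := RingHom.ext (appTop_extHom U φ2)
  have hev : ∀ z : MvPolynomial (Fin 2) Γ(U.left, ⊤),
      val χ (extHom U φ2) (toExt U φ2 z) = toExt U φ2 (Polynomial.aeval z f) := fun z => by
    rw [key, hc, Polynomial.aeval_def, Polynomial.hom_eval₂]
    rfl
  have hchar : Polynomial.aeval (MvPolynomial.X 0 + MvPolynomial.X 1 : MvPolynomial (Fin 2) Γ(U.left, ⊤)) f =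
      Polynomial.aeval (MvPolynomial.X 0 : MvPolynomial (Fin 2) Γ(U.left, ⊤)) f *
        Polynomial.aeval (MvPolynomial.X 1 : MvPolynomial (Fin 2) Γ(U.left, ⊤)) f := by
    apply (toExt_bijective U φ2).1
    rw [map_mul, ← hev, ← hev, ← hev, map_add, val_add]
  have hseq := (GrothLib.GaDual.charEq_iff f).1 hchar
  have h0 : f.coeff 0 = 1 := by
    have e := hseq 0 0
    rw [add_zero, Nat.choose_self, Nat.cast_one, one_mul] at e
    have hu0 : IsUnit (f.coeff 0) := by
      simpa [← Polynomial.constantCoeff_apply] using hu.map (Polynomial.constantCoeff (R := Γ(U.left, ⊤)))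
    exact hu0.mul_left_cancel (e.trans (mul_one _).symm)
  exact ⟨f, ⟨h0, hseq⟩, char_ext fun V g t => by rw [key, val_polyChar]⟩

/-! ### Characters of the dual -/

variable (X) in
abbrev DualGa : BigSite.Ab fppf X := CGrpSh2.dualSh fppf (GaSh X)

/-- Characters of the dual. -/
abbrev BiOn (T : Over X) : Type (u + 1) := (DualGa X).over T ⟶ (GmSh X).over T

/-- The value of a character of the dual. -/
def val2 {T : Over X} (Φ : BiOn T) {U : Over X} (g : U ⟶ T) (χ : CharOn U) : Γ(U.left, ⊤) :=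
  gmVal (U := U) (Φ.hom.app (op (Over.mk g)) χ)

theorem val2_comp {T : Over X} (Φ : BiOn T) {U V : Over X} (g : U ⟶ T) (h : V ⟶ U) (χ : CharOn U) :
    val2 Φ (h ≫ g) (res h χ) = h.left.appTop (val2 Φ g χ) := by
  have hn := ConcreteCategory.congr_hom (Φ.hom.naturality (Over.homMk h rfl : Over.mk (h ≫ g) ⟶ Over.mk g).op) χ
  unfold val2
  rw [← gmVal_map h]
  exact congrArg (gmVal (U := V)) hn

theorem val2_add {T : Over X} (Φ : BiOn T) {U : Over X} (g : U ⟶ T) (χ χ' : CharOn U) :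
    val2 Φ g (χ + χ') = val2 Φ g χ * val2 Φ g χ' :=
  (congrArg (gmVal (U := U)) (map_add (Φ.hom.app (op (Over.mk g))).hom χ χ')).trans (gmVal_add _ _)

theorem val2_zero {T : Over X} (Φ : BiOn T) {U : Over X} (g : U ⟶ T) :
    val2 Φ g (0 : CharOn U) = 1 :=
  (congrArg (gmVal (U := U)) (map_zero (Φ.hom.app (op (Over.mk g))).hom)).trans gmVal_zero

theorem val2_congr {T : Over X} (Φ : BiOn T) {U : Over X} {g g' : U ⟶ T} (e : g = g') (χ : CharOn U) :
    val2 Φ g χ = val2 Φ g' χ := by subst e; rfl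

theorem val_congr {T : Over X} (χ : CharOn T) {U : Over X} {g g' : U ⟶ T} (e : g = g') (t : Γ(U.left, ⊤)) :
    val χ g t = val χ g' t := by subst e; rfl

theorem bi_ext {T : Over X} {Φ Ψ : BiOn T}
    (h : ∀ (U : Over X) (g : U ⟶ T) χ, val2 Φ g χ = val2 Ψ g χ) : Φ = Ψ :=
  Sheaf.hom_ext (NatTrans.ext (funext fun W => AddCommGrpCat.ext fun x => by
    obtain ⟨W⟩ := W
    exact gmVal_injective (U := W.left) (h W.left W.hom x)))

/-- `Φ` is evaluation at `b` below `g`. -/
def IsEval {T : Over X} (Φ : BiOn T) {U : Over X} (g : U ⟶ T) (b : Γ(U.left, ⊤)) : Prop :=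
  ∀ (V : Over X) (h : V ⟶ U) (χ : CharOn V), val2 Φ (h ≫ g) χ = val χ (𝟙 V) (h.left.appTop b)

theorem IsEval.comp {T : Over X} {Φ : BiOn T} {U U' : Over X} {g : U ⟶ T} {b : Γ(U.left, ⊤)}
    (H : IsEval Φ g b) (k : U' ⟶ U) : IsEval Φ (k ≫ g) (k.left.appTop b) := fun V h χ => by
  rw [← Category.assoc, H V (h ≫ k) χ, Over.comp_left, Scheme.Hom.comp_appTop]
  rfl

theorem trunc_coeff_inj {A : Type u} [CommRing A] {c d : A}
    (h : Ideal.Quotient.mk (Ideal.span {(Polynomial.X : Polynomial A) ^ 2}) (Polynomial.C c * Polynomial.X) =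
      Ideal.Quotient.mk (Ideal.span {(Polynomial.X : Polynomial A) ^ 2}) (Polynomial.C d * Polynomial.X)) : c = d := by
  rw [Ideal.Quotient.eq, Ideal.mem_span_singleton] at h
  obtain ⟨g, hg⟩ := h
  have e := congrArg (fun p : Polynomial A => p.coeff 1) hg
  simp only [Polynomial.coeff_sub, Polynomial.coeff_C_mul, Polynomial.coeff_X_one, mul_one] at e
  rw [mul_comm (Polynomial.X ^ 2), Polynomial.coeff_mul_X_pow', if_neg (by omega)] at e
  exact sub_eq_zero.1 e

theorem IsEval.unique_affine {T : Over X} {Φ : BiOn T} {U : Over X} [IsAffine U.left] {g : U ⟶ T}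
    {b b' : Γ(U.left, ⊤)} (H : IsEval Φ g b) (H' : IsEval Φ g b') : b = b' := by
  let φ : Γ(U.left, ⊤) →+* Trunc Γ(U.left, ⊤) 2 := (Ideal.Quotient.mk _).comp Polynomial.C
  let x : Trunc Γ(U.left, ⊤) 2 := Ideal.Quotient.mk _ Polynomial.X
  let V := extOb U φ
  let e : Γ(V.left, ⊤) := toExt U φ x
  have he : e * e = 0 := (map_mul (toExt U φ) x x).symm.trans
    ((congrArg (toExt U φ) ((pow_two x).symm.trans (trunc_X_pow 2))).trans (map_zero _))
  let χ : CharOn V := polyChar _ (IsCharPoly.linear he)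
  have hv : ∀ z : Γ(U.left, ⊤), val χ (𝟙 V) ((extHom U φ).left.appTop z) = 1 + toExt U φ (φ z * x) := fun z =>
    ((val_polyChar _ _ _ _).trans (by
      rw [Polynomial.eval₂_add, Polynomial.eval₂_one, Polynomial.eval₂_mul, Polynomial.eval₂_C, Polynomial.eval₂_X]
      rfl)).trans (congrArg (1 + ·)
        ((congrArg (e * ·) (appTop_extHom U φ z)).trans ((mul_comm _ _).trans (map_mul (toExt U φ) (φ z) x).symm)))
  have h1 := add_left_cancel ((hv b).symm.trans ((H V (extHom U φ) χ).symm.trans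
    ((H' V (extHom U φ) χ).trans (hv b'))))
  refine trunc_coeff_inj ?_
  rw [map_mul, map_mul]
  exact (toExt_bijective U φ).1 h1

theorem IsEval.unique {T : Over X} {Φ : BiOn T} {U : Over X} {g : U ⟶ T}
    {b b' : Γ(U.left, ⊤)} (H : IsEval Φ g b) (H' : IsEval Φ g b') : b = b' := by
  refine eq_of_cover U.left.affineCover b b' fun i => ?_
  let V : Over X := Over.mk (U.left.affineCover.f i ≫ U.hom)
  haveI : IsAffine V.left := inferInstanceAs (IsAffine (U.left.affineCover.X i))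
  exact (H.comp (Over.homMk (U.left.affineCover.f i) rfl : V ⟶ U)).unique_affine (H'.comp _)

/-- It is enough to test on polynomial characters over affine objects. -/
theorem isEval_of_affine {T : Over X} (Φ : BiOn T) {U : Over X} (g : U ⟶ T) (b : Γ(U.left, ⊤))
    (H : ∀ (V : Over X), IsAffine V.left → ∀ (h : V ⟶ U) (f : Polynomial Γ(V.left, ⊤)) (hf : IsCharPoly f),
      val2 Φ (h ≫ g) (polyChar f hf) = f.eval (h.left.appTop b)) : IsEval Φ g b := by
  intro V h χ
  refine eq_of_cover V.left.affineCover _ _ fun i => ?_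
  let W : Over X := Over.mk (V.left.affineCover.f i ≫ V.hom)
  haveI hW : IsAffine W.left := inferInstanceAs (IsAffine (V.left.affineCover.X i))
  let k : W ⟶ V := Over.homMk (V.left.affineCover.f i) rfl
  obtain ⟨f, hf, hχ⟩ := exists_eq_polyChar (res k χ)
  show k.left.appTop _ = k.left.appTop _
  refine ((val2_comp Φ (h ≫ g) k χ).symm.trans ?_).trans (val_comp χ (𝟙 V) k _)
  rw [hχ, val2_congr Φ (Category.assoc k h g).symm, H W hW (k ≫ h) f hf, Over.comp_left, Scheme.Hom.comp_appTop]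
  refine Eq.trans ?_ ((val_res k χ (𝟙 W) _).trans (val_congr χ (by simp) _))
  rw [hχ, val_polyChar, Over.id_left, Scheme.Hom.id_appTop]
  rfl

theorem exists_isEval {T : Over X} (Φ : BiOn T)
    (haff : ∀ (U : Over X) (g : U ⟶ T), IsAffine U.left → ∃ b, IsEval Φ g b) : ∃ b, IsEval Φ (𝟙 T) b := by
  let 𝒰 := T.left.affineCover
  let V : 𝒰.I₀ → Over X := fun i => Over.mk (𝒰.f i ≫ T.hom)
  let k : ∀ i, V i ⟶ T := fun i => Over.homMk (𝒰.f i) rfl
  choose bl hbl using fun i => haff (V i) (k i ≫ 𝟙 T) (inferInstanceAs (IsAffine (𝒰.X i)))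
  let pts : ∀ i, 𝒰.X i ⟶ (Red.Ga X).left := fun i => (RedPts.gaPt (bl i) : V i ⟶ Red.Ga X).left
  have compat : ∀ i j, pullback.fst (𝒰.f i) (𝒰.f j) ≫ pts i = pullback.snd (𝒰.f i) (𝒰.f j) ≫ pts j := by
    intro i j
    let W : Over X := Over.mk (pullback.fst (𝒰.f i) (𝒰.f j) ≫ 𝒰.f i ≫ T.hom)
    let p : W ⟶ V i := Over.homMk (pullback.fst (𝒰.f i) (𝒰.f j)) rfl
    let q : W ⟶ V j := Over.homMk (pullback.snd (𝒰.f i) (𝒰.f j)) (pullback.condition_assoc _).symm
    have hpq : p ≫ k i ≫ 𝟙 T = q ≫ k j ≫ 𝟙 T := by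
      rw [Category.comp_id, Category.comp_id]
      exact Over.OverMorphism.ext pullback.condition
    have e : p.left.appTop (bl i) = q.left.appTop (bl j) :=
      ((hbl i).comp p).unique (hpq ▸ (hbl j).comp q)
    have e2 : p ≫ RedPts.gaPt (bl i) = q ≫ RedPts.gaPt (bl j) := RedPts.gaFn_injective (by
      rw [RedPts.gaFn_comp, RedPts.gaFn_comp, RedPts.gaFn_gaPt, RedPts.gaFn_gaPt]
      exact e)
    exact congrArg CommaMorphism.left e2
  let G := Scheme.Cover.glueMorphisms 𝒰 pts compat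
  have hG : G ≫ (Red.Ga X).hom = T.hom := Scheme.Cover.hom_ext 𝒰 _ _ fun i => by
    rw [← Category.assoc, Scheme.Cover.ι_glueMorphisms]
    exact Over.w (RedPts.gaPt (bl i) : V i ⟶ Red.Ga X)
  let pt : T ⟶ Red.Ga X := Over.homMk G hG
  have hk : ∀ i, (k i).left.appTop (Red.gaFn pt) = bl i := fun i => by
    rw [← RedPts.gaFn_comp, show k i ≫ pt = RedPts.gaPt (bl i) from
      Over.OverMorphism.ext (Scheme.Cover.ι_glueMorphisms 𝒰 pts compat i), RedPts.gaFn_gaPt]
  refine ⟨Red.gaFn pt, fun U h χ => ?_⟩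
  let 𝒱 := 𝒰.pullback₁ h.left
  refine eq_of_cover 𝒱 _ _ fun i => ?_
  let W : Over X := Over.mk (pullback.fst h.left (𝒰.f i) ≫ U.hom)
  let p : W ⟶ U := Over.homMk (pullback.fst h.left (𝒰.f i)) rfl
  let q : W ⟶ V i := Over.homMk (pullback.snd h.left (𝒰.f i)) (by
    show pullback.snd h.left (𝒰.f i) ≫ 𝒰.f i ≫ T.hom = pullback.fst h.left (𝒰.f i) ≫ U.hom
    rw [← pullback.condition_assoc, Over.w h])
  have hqk : q ≫ k i = p ≫ h := Over.OverMorphism.ext pullback.condition.symm
  have hqp : q ≫ k i ≫ 𝟙 T = p ≫ h ≫ 𝟙 T := by rw [← Category.assoc, hqk, Category.assoc]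
  have hq : q.left.appTop (bl i) = p.left.appTop (h.left.appTop (Red.gaFn pt)) := by
    rw [← hk i]
    have := congrArg (fun m : W ⟶ T => m.left.appTop (Red.gaFn pt)) hqk
    simpa [Over.comp_left, Scheme.Hom.comp_appTop] using this
  show p.left.appTop _ = p.left.appTop _
  refine ((val2_comp Φ (h ≫ 𝟙 T) p χ).symm.trans ?_).trans (val_comp χ (𝟙 U) p _)
  refine (val2_congr Φ hqp.symm _).trans ((hbl i W q _).trans ?_)
  refine (val_res p χ (𝟙 W) _).trans ?_
  refine (val_congr χ (show 𝟙 W ≫ p = p ≫ 𝟙 U by simp) _).trans ?_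
  exact congrArg (val χ (p ≫ 𝟙 U)) hq

theorem eq_of_isEval {T : Over X} {Φ Ψ : BiOn T} {b : Γ(T.left, ⊤)} (H : IsEval Φ (𝟙 T) b)
    (H' : IsEval Ψ (𝟙 T) b) : Φ = Ψ :=
  bi_ext fun U g χ => by
    rw [val2_congr Φ (Category.comp_id g).symm, val2_congr Ψ (Category.comp_id g).symm, H U g χ, H' U g χ]

theorem isEval_evalSect {T : Over X} (s : (GaSh X).obj.obj (op T)) :
    IsEval (HomSh.evalSect (M := GmSh X) (QuotSh.J fppf X) s : BiOn T) (𝟙 T) (gaVal s) := fun V h χ => by
  refine (val2_congr _ (Category.comp_id h) χ).trans ?_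
  rw [← gaVal_map]
  unfold val
  rw [gaSec_gaVal]
  rfl

theorem bijective_toDoubleDual (haff : ∀ (T U : Over X) (Φ : BiOn T) (g : U ⟶ T), IsAffine U.left → ∃ b, IsEval Φ g b)
    (T : Over X) : Function.Bijective ((CGrpSh2.toDoubleDual fppf (GaSh X)).hom.app (op T)) := by
  refine ⟨(injective_iff_map_eq_zero _).2 fun s hs => ?_, fun Φ => ?_⟩
  · have H := isEval_evalSect s
    rw [show (HomSh.evalSect (M := GmSh X) (QuotSh.J fppf X) s : BiOn T) = 0 from hs] at H
    have H0 : IsEval (0 : BiOn T) (𝟙 T) 0 := fun V h χ => by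
      rw [map_zero]
      have e := val_add χ (𝟙 V) 0 0
      rw [add_zero] at e
      exact (gmVal_zero).trans ((isUnit_gmVal _).mul_left_cancel (e.symm.trans (mul_one _).symm)).symm
    rw [← gaSec_gaVal s, H.unique H0]
    exact ULift.ext _ _ (congrArg Additive.ofMul (RedPts.gaFn_injective
      ((RedPts.gaFn_gaPt _).trans RedPts.gaFn_one.symm)))
  · obtain ⟨b, hb⟩ := exists_isEval (Φ : BiOn T) (fun U g hU => haff T U Φ g hU)
    have H := isEval_evalSect (gaSec b)
    rw [gaVal_gaSec] at H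
    exact ⟨gaSec b, eq_of_isEval H hb⟩

theorem isIso_of_app {C : Type (u + 1)} [Category.{u} C] {J : GrothendieckTopology C}
    {F G : Sheaf J AddCommGrpCat.{u + 1}} (α : F ⟶ G)
    (h : ∀ T : C, IsIso (α.hom.app (op T))) : IsIso α := by
  haveI : ∀ T, IsIso (α.hom.app T) := fun T => h T.unop
  haveI : IsIso α.hom := NatIso.isIso_of_isIso_app _
  exact ⟨⟨inv α.hom⟩, Sheaf.hom_ext (IsIso.hom_inv_id _), Sheaf.hom_ext (IsIso.inv_hom_id _)⟩

theorem isIso_app_toDoubleDual
    (haff : ∀ (T U : Over X) (Φ : BiOn T) (g : U ⟶ T), IsAffine U.left → ∃ b, IsEval Φ g b) (T : Over X) :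
    IsIso ((CGrpSh2.toDoubleDual fppf (GaSh X)).hom.app (op T)) :=
  (ConcreteCategory.isIso_iff_bijective _).2 (bijective_toDoubleDual haff T)

theorem isIso_toDoubleDual
    (haff : ∀ (T U : Over X) (Φ : BiOn T) (g : U ⟶ T), IsAffine U.left → ∃ b, IsEval Φ g b) :
    IsIso (CGrpSh2.toDoubleDual fppf (GaSh X)) :=
  isIso_of_app (CGrpSh2.toDoubleDual fppf (GaSh X)) (isIso_app_toDoubleDual haff)

end GrothLib.GaDualP13
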